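import Groth.Agent.CechTorsor.Basic

/-!
# The boundary map for a sheaf of subgroups
-/

noncomputable section

universe w v u

open CategoryTheory Opposite NonAbH1 NonAbH1.GSheaf

set_option linter.style.haveILetI false

namespace Groth.Agent.H9Boundary

variable {C : Type u} [Category.{v} C] {J : GrothendieckTopology C} {F G : Sheaf J GrpCat.{w}}

theorem set_glue (P : Sheaf J (Type w)) {V : C} (S : Sieve V) (hS : S ∈ J V)
    (x : ∀ ⦃T : C⦄ (f : T ⟶ V), S f → P.obj.obj (op T))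
    (hx : ∀ ⦃T T' : C⦄ (f : T ⟶ V) (hf : S f) (h : T' ⟶ T),
      P.obj.map h.op (x f hf) = x (h ≫ f) (S.downward_closed hf h)) :
    ∃ p : P.obj.obj (op V), ∀ ⦃T : C⦄ (f : T ⟶ V) (hf : S f), P.obj.map f.op p = x f hf := by
  obtain ⟨p, hp, -⟩ := (((isSheaf_iff_isSheaf_of_type _ _).1 P.property) S hS) x
    ((Presieve.compatible_iff_sieveCompatible _).2 fun _ _ f g hf => (hx f hf g).symm)
  exact ⟨p, hp⟩

/-- A global section from sections given locally. -/
theorem exists_section (P : Sheaf J (Type w)) (R : ∀ {U : Cᵒᵖ}, P.obj.obj U → Prop)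
    (huniq : ∀ {U : Cᵒᵖ} {p q : P.obj.obj U}, R p → R q → p = q)
    (hres : ∀ {U V : Cᵒᵖ} (f : U ⟶ V) {p : P.obj.obj U}, R p → R (P.obj.map f p))
    (hloc : ∀ {V : C} (p : P.obj.obj (op V)) (S : Sieve V), S ∈ J V →
      (∀ ⦃T : C⦄ (f : T ⟶ V), S f → R (P.obj.map f.op p)) → R p)
    (hex : ∀ V : C, ∃ S ∈ J V, ∀ ⦃T : C⦄ (f : T ⟶ V), S f → ∃ p : P.obj.obj (op T), R p) :
    ∃ s : P.obj.sections, ∀ U, R (s.1 U) := by
  have key : ∀ U : Cᵒᵖ, ∃ p : P.obj.obj U, R p := fun ⟨V⟩ => by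
    obtain ⟨S, hS, h⟩ := hex V
    choose x hx using h
    obtain ⟨p, hp⟩ := set_glue P S hS x fun T T' f hf a => huniq (hres _ (hx f hf)) (hx _ _)
    exact ⟨p, hloc p S hS fun T f hf => (hp f hf) ▸ hx f hf⟩
  choose s hs using key
  exact ⟨⟨s, fun f => huniq (hres f (hs _)) (hs _)⟩, hs⟩

/-- An equivariant morphism from functions on sections. -/
def mkHom {P Q : GSheaf G} (app : ∀ U : Cᵒᵖ, P.P.obj.obj U → Q.P.obj.obj U)
    (nat : ∀ {U V : Cᵒᵖ} (f : U ⟶ V) p, app V (P.P.obj.map f p) = Q.P.obj.map f (app U p))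
    (smul : ∀ {U : Cᵒᵖ} (g : G.obj.obj U) p, app U (P.smul g p) = Q.smul g (app U p)) : P ⟶ Q :=
  ⟨⟨{ app := fun U => TypeCat.ofHom (app U)
      naturality := fun _ _ f => ConcreteCategory.hom_ext _ _ fun p => nat f p }⟩, smul⟩

/-- Equivariant maps bijective on sections are isomorphisms. -/
theorem nonempty_iso {P Q : GSheaf G} (φ : P ⟶ Q) (h : ∀ U, Function.Bijective (φ.hom.hom.app U)) : Nonempty (P ≅ Q) := by
  let inv' : ∀ U : Cᵒᵖ, Q.P.obj.obj U → P.P.obj.obj U := fun U => (Equiv.ofBijective _ (h U)).symm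
  have hinv : ∀ U q, φ.hom.hom.app U (inv' U q) = q := fun U q => (Equiv.ofBijective _ (h U)).apply_symm_apply q
  let ψ : Q ⟶ P := mkHom inv'
    (fun {U V} f q => (h V).1 (by rw [hinv, NatTrans.naturality_apply, hinv]))
    (fun {U} g q => (h U).1 (by rw [hinv, φ.map_smul, hinv]))
  refine ⟨⟨φ, ψ, ?_, ?_⟩⟩
  · refine GSheaf.hom_ext (Sheaf.hom_ext (NatTrans.ext (funext fun U => ConcreteCategory.hom_ext _ _ fun p => ?_)))
    exact (h U).1 (hinv U _)
  · refine GSheaf.hom_ext (Sheaf.hom_ext (NatTrans.ext (funext fun U => ConcreteCategory.hom_ext _ _ fun q => ?_)))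
    exact hinv U q

variable [J.HasSheafCompose (forget GrpCat.{w})] (u : F ⟶ G) (hu : ∀ U : Cᵒᵖ, Function.Injective (u.hom.app U))
  {Q : GSheaf G} (π : trivial G ⟶ Q) (hQ : IsQuotientBy u π)

abbrev pr (U : Cᵒᵖ) (g : G.obj.obj U) : Q.P.obj.obj U := π.hom.hom.app U (ofGrp g)

theorem pr_mul (U : Cᵒᵖ) (h g : G.obj.obj U) : pr π U (h * g) = Q.smul h (pr π U g) :=
  π.map_smul h (ofGrp g)

theorem pr_map {U V : Cᵒᵖ} (a : U ⟶ V) (g : G.obj.obj U) : pr π V (G.obj.map a g) = Q.P.obj.map a (pr π U g) :=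
  NatTrans.naturality_apply π.hom.hom a (ofGrp g)

include hQ in
theorem pr_right (U : Cᵒᵖ) (g : G.obj.obj U) (f : F.obj.obj U) : pr π U (g * u.hom.app U f) = pr π U g :=
  ((hQ.1 U g _).2 ⟨f, rfl⟩).symm

theorem u_map {U V : Cᵒᵖ} (a : U ⟶ V) (f : F.obj.obj U) : u.hom.app V (F.obj.map a f) = G.obj.map a (u.hom.app U f) :=
  NatTrans.naturality_apply u.hom a f

theorem sec_map {P : Sheaf J (Type w)} (s : P.obj.sections) {U V : Cᵒᵖ} (a : U ⟶ V) : P.obj.map a (s.1 U) = s.1 V :=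
  s.2 a

/-- The sheaf of liftings. -/
abbrev liftSub (c : Q.P.obj.sections) : Subfunctor (uSh G).obj where
  obj U := {g | pr π U (toGrp g) = c.1 U}
  map {U V} a g hg := by
    show pr π V (G.obj.map a (toGrp g)) = c.1 V
    rw [pr_map, show pr π U (toGrp g) = c.1 U from hg, sec_map]

theorem isSheaf_liftSub (c : Q.P.obj.sections) : Presheaf.IsSheaf J (liftSub π c).toFunctor := by
  rw [isSheaf_iff_isSheaf_of_type, Subfunctor.isSheaf_iff _ ((isSheaf_iff_isSheaf_of_type _ _).1 (uSh G).property)]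
  intro U g hg
  obtain ⟨U⟩ := U
  refine CechTorsor.set_sep Q.P _ hg fun T a (ha : pr π (op T) (G.obj.map a.op (toGrp g)) = c.1 (op T)) => ?_
  rw [← pr_map, ha, sec_map]

include hu hQ in
theorem exists_fibre (c : Q.P.obj.sections) : ∃ T : GSheaf F, IsFibreOver u π c T := by
  refine ⟨{
    P := ⟨(liftSub π c).toFunctor, isSheaf_liftSub π c⟩
    smul := fun {U} f t => ⟨ofGrp (toGrp t.1 * (u.hom.app U f)⁻¹), by
      show pr π U (toGrp t.1 * (u.hom.app U f)⁻¹) = c.1 U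
      rw [← map_inv, pr_right u π hQ]
      exact t.2⟩
    one_smul := fun {U} t => Subtype.ext (by simp)
    mul_smul := fun {U} f f' t => Subtype.ext (by
      show toGrp t.1 * (u.hom.app U (f * f'))⁻¹ = toGrp t.1 * (u.hom.app U f')⁻¹ * (u.hom.app U f)⁻¹
      rw [map_mul, mul_inv_rev, mul_assoc])
    map_smul := fun {U V} a f t => Subtype.ext (by
      show G.obj.map a (toGrp t.1 * (u.hom.app U f)⁻¹) = G.obj.map a (toGrp t.1) * (u.hom.app V (F.obj.map a f))⁻¹
      rw [map_mul, map_inv, u_map]) }, ⟨(liftSub π c).ι⟩, fun U => Subtype.val_injective, fun U g => ?_, fun U f t => rfl⟩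
  exact ⟨fun ⟨t, ht⟩ => ht ▸ t.2, fun h => ⟨⟨ofGrp g, h⟩, rfl⟩⟩

include hu hQ in
theorem isTorsor_of_fibre {c : Q.P.obj.sections} {T : GSheaf F} (hT : IsFibreOver u π c T) : T.IsTorsor := by
  obtain ⟨ι, hinj, him, heq⟩ := hT
  refine ⟨fun U p q => ?_, fun V => ?_⟩
  · obtain ⟨f, hf⟩ := (hQ.1 U (toGrp (ι.hom.app U p)) (toGrp (ι.hom.app U q))).1
      (((him U _).1 ⟨p, rfl⟩).trans ((him U _).1 ⟨q, rfl⟩).symm)
    refine ⟨f⁻¹, hinj U ?_, fun a ha => ?_⟩
    · show toGrp (ι.hom.app U (T.smul f⁻¹ p)) = toGrp (ι.hom.app U q)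
      rw [heq, map_inv, inv_inv, hf]
    · have h1 := heq U a p
      rw [ha, hf] at h1
      have h2 : u.hom.app U f = (u.hom.app U a)⁻¹ := mul_left_cancel h1
      rw [← map_inv] at h2
      rw [hu U h2, inv_inv]
  · obtain ⟨S, hS, h⟩ := hQ.2 V (c.1 (op V))
    refine ⟨S, hS, fun W a ha => ?_⟩
    obtain ⟨g, hg⟩ := h a ha
    obtain ⟨t, -⟩ := (him (op W) g).2 (hg.trans (sec_map c a.op))
    exact ⟨t⟩

/-- Translation by a global section. -/
theorem iso_of_translate {c c' : Q.P.obj.sections} {T T' : GSheaf F} (hT : IsFibreOver u π c T) (hT' : IsFibreOver u π c' T')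
    (g : (uSh G).obj.sections) (hg : ∀ U, Q.smul (toGrp (g.1 U)) (c.1 U) = c'.1 U) : Nonempty (T ≅ T') := by
  obtain ⟨ι, hinj, him, heq⟩ := hT
  obtain ⟨ι', hinj', him', heq'⟩ := hT'
  have ex : ∀ (U : Cᵒᵖ) (t : T.P.obj.obj U), ∃ t', toGrp (ι'.hom.app U t') = toGrp (g.1 U) * toGrp (ι.hom.app U t) :=
    fun U t => (him' U _).2 (by
      show pr π U _ = _
      rw [pr_mul, show pr π U (toGrp (ι.hom.app U t)) = c.1 U from (him U _).1 ⟨t, rfl⟩, hg])
  choose app happ using ex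
  let φ : T ⟶ T' := mkHom app
    (fun {U V} a t => hinj' V (by
      show toGrp (ι'.hom.app V (app V (T.P.obj.map a t))) = toGrp (ι'.hom.app V (T'.P.obj.map a (app U t)))
      rw [happ, NatTrans.naturality_apply, NatTrans.naturality_apply]
      show toGrp (g.1 V) * G.obj.map a (toGrp (ι.hom.app U t)) = G.obj.map a (toGrp (ι'.hom.app U (app U t)))
      rw [happ, map_mul]
      congr 1
      exact (sec_map g a).symm))
    (fun {U} f t => hinj' U (by
      show toGrp (ι'.hom.app U (app U (T.smul f t))) = toGrp (ι'.hom.app U (T'.smul f (app U t)))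
      rw [happ, heq, heq', happ, mul_assoc]))
  refine nonempty_iso φ fun U => ⟨fun t t' h => hinj U ?_, fun t' => ?_⟩
  · have h1 := congrArg (fun s => toGrp (ι'.hom.app U s)) h
    have h2 : toGrp (g.1 U) * toGrp (ι.hom.app U t) = toGrp (g.1 U) * toGrp (ι.hom.app U t') := by
      rw [← happ, ← happ]; exact h1
    have h3 : toGrp (ι.hom.app U t) = toGrp (ι.hom.app U t') := mul_left_cancel h2
    exact h3
  · obtain ⟨t, ht⟩ := (him U ((toGrp (g.1 U))⁻¹ * toGrp (ι'.hom.app U t'))).2 (by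
      show pr π U _ = _
      rw [pr_mul, show pr π U (toGrp (ι'.hom.app U t')) = c'.1 U from (him' U _).1 ⟨t', rfl⟩, ← hg U, ← Q.mul_smul,
        inv_mul_cancel, Q.one_smul])
    refine ⟨t, hinj' U ?_⟩
    show toGrp (ι'.hom.app U (app U t)) = toGrp (ι'.hom.app U t')
    rw [happ, ht, mul_inv_cancel_left]

include hu hQ in
theorem translate_of_iso {c c' : Q.P.obj.sections} {T T' : GSheaf F} (hT : IsFibreOver u π c T)
    (hT' : IsFibreOver u π c' T') (e : T ≅ T') :
    ∃ g : (uSh G).obj.sections, ∀ U, Q.smul (toGrp (g.1 U)) (c.1 U) = c'.1 U := by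
  have htor := isTorsor_of_fibre u hu π hQ hT
  obtain ⟨ι, hinj, him, heq⟩ := hT
  obtain ⟨ι', hinj', him', heq'⟩ := hT'
  let d : ∀ {U : Cᵒᵖ}, T.P.obj.obj U → G.obj.obj U := fun {U} t =>
    toGrp (ι'.hom.app U (e.hom.hom.hom.app U t)) * (toGrp (ι.hom.app U t))⁻¹
  have dconst : ∀ {U : Cᵒᵖ} (t s : T.P.obj.obj U), d t = d s := fun {U} t s => by
    obtain ⟨a, rfl, -⟩ := htor.1 U t s
    simp only [d]
    rw [e.hom.map_smul, heq', heq, mul_inv_rev, inv_inv, mul_assoc, inv_mul_cancel_left]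
  have dmap : ∀ {U V : Cᵒᵖ} (a : U ⟶ V) (t : T.P.obj.obj U), G.obj.map a (d t) = d (T.P.obj.map a t) := fun {U V} a t => by
    simp only [d, map_mul, map_inv, NatTrans.naturality_apply]
    rfl
  obtain ⟨g, hg⟩ := exists_section (uSh G)
    (fun {U} p => ∀ ⦃V : Cᵒᵖ⦄ (a : U ⟶ V) (t : T.P.obj.obj V), G.obj.map a (toGrp p) = d t)
    (fun {U p q} hp hq => by
      obtain ⟨U⟩ := U
      obtain ⟨S, hS, h⟩ := htor.2 U
      exact CechTorsor.group_sep S hS fun W a ha => (hp a.op (h a ha).some).trans (hq a.op (h a ha).some).symm)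
    (fun {U V} f {p} hp W a t => by
      show G.obj.map a (G.obj.map f (toGrp p)) = _
      rw [← ConcreteCategory.comp_apply, ← Functor.map_comp]
      exact hp (f ≫ a) t)
    (fun {V} p S hS h W a t => by
      obtain ⟨W⟩ := W
      obtain ⟨a, rfl⟩ : ∃ a' : W ⟶ V, a = a'.op := ⟨a.unop, rfl⟩
      refine CechTorsor.group_sep (S.pullback a) (J.pullback_stable a hS) fun R b hb => ?_
      rw [CechTorsor.map_map, dmap]
      have := h (b ≫ a) hb (𝟙 _) (T.P.obj.map b.op t)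
      rw [CategoryTheory.Functor.map_id] at this
      exact this)
    (fun V => by
      obtain ⟨S, hS, h⟩ := htor.2 V
      refine ⟨S, hS, fun W a ha => ⟨ofGrp (d (h a ha).some), fun R b t => ?_⟩⟩
      show G.obj.map b (d (h a ha).some) = d t
      rw [dmap]
      exact dconst _ _)
  refine ⟨g, fun U => ?_⟩
  obtain ⟨U⟩ := U
  obtain ⟨S, hS, h⟩ := htor.2 U
  refine CechTorsor.set_sep Q.P S hS fun W a ha => ?_
  obtain ⟨t⟩ := h a ha
  rw [Q.map_smul, sec_map, sec_map, hg (op U) a.op t, ← (him (op W) _).1 ⟨t, rfl⟩]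
  show Q.smul (d t) (pr π (op W) _) = _
  rw [← pr_mul, inv_mul_cancel_right]
  exact (him' (op W) _).1 ⟨_, rfl⟩

include hu hQ in
theorem pushforward_iff {T : GSheaf F} (hT : T.IsTorsor) :
    IsPushforwardAlong u T (trivial G) ↔ ∃ c : Q.P.obj.sections, IsFibreOver u π c T := by
  constructor
  · rintro ⟨f, hf⟩
    have hf' : ∀ (U : Cᵒᵖ) (a : F.obj.obj U) (t : T.P.obj.obj U),
        toGrp (f.hom.app U (T.smul a t)) = u.hom.app U a * toGrp (f.hom.app U t) := fun U a t => hf U a t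
    let j : ∀ {U : Cᵒᵖ}, T.P.obj.obj U → G.obj.obj U := fun {U} t => (toGrp (f.hom.app U t))⁻¹
    have jeq : ∀ {U : Cᵒᵖ} (a : F.obj.obj U) (t : T.P.obj.obj U), j (T.smul a t) = j t * (u.hom.app U a)⁻¹ :=
      fun {U} a t => by simp only [j, hf', mul_inv_rev]
    have jmap : ∀ {U V : Cᵒᵖ} (a : U ⟶ V) (t : T.P.obj.obj U), G.obj.map a (j t) = j (T.P.obj.map a t) := fun {U V} a t => by
      simp only [j, map_inv, NatTrans.naturality_apply]
      rfl
    have pconst : ∀ {U : Cᵒᵖ} (t s : T.P.obj.obj U), pr π U (j t) = pr π U (j s) := fun {U} t s => by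
      obtain ⟨a, rfl, -⟩ := hT.1 U t s
      rw [jeq, ← map_inv, pr_right u π hQ]
    obtain ⟨c, hc⟩ := exists_section Q.P
      (fun {U} p => ∀ ⦃V : Cᵒᵖ⦄ (a : U ⟶ V) (t : T.P.obj.obj V), Q.P.obj.map a p = pr π V (j t))
      (fun {U p q} hp hq => by
        obtain ⟨U⟩ := U
        obtain ⟨S, hS, h⟩ := hT.2 U
        exact CechTorsor.set_sep Q.P S hS fun W a ha => (hp a.op (h a ha).some).trans (hq a.op (h a ha).some).symm)
      (fun {U V} g {p} hp W a t => by
        rw [← ConcreteCategory.comp_apply, ← Functor.map_comp]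
        exact hp (g ≫ a) t)
      (fun {V} p S hS h W a t => by
        obtain ⟨W⟩ := W
        obtain ⟨a, rfl⟩ : ∃ a' : W ⟶ V, a = a'.op := ⟨a.unop, rfl⟩
        refine CechTorsor.set_sep Q.P (S.pullback a) (J.pullback_stable a hS) fun R b hb => ?_
        rw [← ConcreteCategory.comp_apply, ← Functor.map_comp, ← pr_map, jmap]
        have := h (b ≫ a) hb (𝟙 _) (T.P.obj.map b.op t)
        rw [CategoryTheory.Functor.map_id] at this
        exact this)
      (fun V => by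
        obtain ⟨S, hS, h⟩ := hT.2 V
        refine ⟨S, hS, fun W a ha => ⟨pr π (op W) (j (h a ha).some), fun R b t => ?_⟩⟩
        rw [← pr_map, jmap]
        exact pconst _ _)
    have jinj : ∀ {U : Cᵒᵖ} (t s : T.P.obj.obj U), j t = j s → t = s := fun {U} t s h => by
      obtain ⟨a, rfl, -⟩ := hT.1 U t s
      rw [jeq, left_eq_mul, inv_eq_one] at h
      have ha : a = 1 := hu U (h.trans (map_one _).symm)
      rw [ha, T.one_smul]
    refine ⟨c, ⟨{ app := fun U => TypeCat.ofHom fun t => ofGrp (j t)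
                  naturality := fun U V a => ConcreteCategory.hom_ext _ _ fun t => (jmap a t).symm }⟩,
      fun U t s h => jinj t s h, fun U g => ⟨?_, fun hgc => ?_⟩, fun U a t => jeq a t⟩
    · rintro ⟨t, rfl⟩
      have := hc U (𝟙 U) t
      rw [CategoryTheory.Functor.map_id] at this
      exact this.symm
    · obtain ⟨U⟩ := U
      obtain ⟨S, hS, h⟩ := hT.2 U
      have ex : ∀ ⦃W : C⦄ (a : W ⟶ U), S a → ∃ t : T.P.obj.obj (op W), j t = G.obj.map a.op g := fun W a ha => by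
        obtain ⟨s⟩ := h a ha
        have h1 : pr π (op W) (j s) = pr π (op W) (G.obj.map a.op g) := by
          rw [pr_map, show pr π (op U) g = c.1 (op U) from hgc]
          exact (hc (op U) a.op s).symm
        obtain ⟨b, hb⟩ := (hQ.1 _ _ _).1 h1
        exact ⟨T.smul b⁻¹ s, by rw [jeq, map_inv, inv_inv]; exact hb.symm⟩
      choose x hx using ex
      obtain ⟨t, ht⟩ := set_glue T.P S hS x fun W W' a ha b => jinj _ _ (by
        rw [← jmap, hx, hx, CechTorsor.map_map])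
      refine ⟨t, CechTorsor.group_sep S hS fun W a ha => ?_⟩
      show G.obj.map a.op (j t) = _
      rw [jmap, ht a ha, hx]
  · rintro ⟨c, ι, hinj, him, heq⟩
    refine ⟨⟨{ app := fun U => TypeCat.ofHom fun t => ofGrp (toGrp (ι.hom.app U t))⁻¹
               naturality := fun U V a => ConcreteCategory.hom_ext _ _ fun t => ?_ }⟩, fun U a t => ?_⟩
    · show (toGrp (ι.hom.app V (T.P.obj.map a t)))⁻¹ = G.obj.map a (toGrp (ι.hom.app U t))⁻¹
      rw [map_inv, NatTrans.naturality_apply]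
      rfl
    · show (toGrp (ι.hom.app U (T.smul a t)))⁻¹ = u.hom.app U a * (toGrp (ι.hom.app U t))⁻¹
      rw [heq, mul_inv_rev, inv_inv]

theorem trivial_of_section (T : GSheaf F) (hT : T.IsPseudoTorsor)
    (s : T.P.obj.sections) : Nonempty (trivial F ≅ T) := by
  refine nonempty_iso (mkHom (fun U a => T.smul (toGrp a) (s.1 U)) (fun {U V} f a => ?_) (fun {U} a b => ?_)) fun U => ⟨?_, ?_⟩
  · rw [T.map_smul, sec_map]
    rfl
  · exact T.mul_smul a _ _
  · intro a b h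
    exact (hT U (s.1 U) _).unique h rfl
  · intro t
    obtain ⟨a, ha, -⟩ := hT U (s.1 U) t
    exact ⟨ofGrp a, ha⟩

include hu hQ in
theorem cl_eq_one_iff_lifts (c : Q.P.obj.sections) (T : Torsor F) (hT : IsFibreOver u π c T.toGSheaf) :
    T.cl = 1 ↔ ∃ g : (uSh G).obj.sections, ∀ U, π.hom.hom.app U (g.1 U) = c.1 U := by
  obtain ⟨ι, hinj, him, heq⟩ := hT
  constructor
  · intro h
    let f : H1 F → Prop := Quot.lift (fun P : Torsor F => P.P.obj.sections.Nonempty) fun P P' ⟨e⟩ => propext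
      ⟨fun ⟨s, hs⟩ => ⟨fun U => e.hom.hom.hom.app U (s U), fun {U V} a => by rw [← NatTrans.naturality_apply, hs a]⟩,
        fun ⟨s, hs⟩ => ⟨fun U => e.inv.hom.hom.app U (s U), fun {U V} a => by rw [← NatTrans.naturality_apply, hs a]⟩⟩
    have : f T.cl := by
      rw [h]
      exact ⟨fun U => ofGrp (1 : F.obj.obj U), fun {U V} a => map_one (F.obj.map a).hom⟩
    obtain ⟨s, hs⟩ := this
    exact ⟨⟨fun U => ι.hom.app U (s U), fun {U V} a => by rw [← NatTrans.naturality_apply, hs a]⟩,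
      fun U => (him U _).1 ⟨s U, rfl⟩⟩
  · rintro ⟨g, hg⟩
    choose s hs using fun U => (him U (toGrp (g.1 U))).2 (hg U)
    let sec : T.P.obj.sections := ⟨s, fun {U V} a => hinj V (by
      show toGrp (ι.hom.app V (T.P.obj.map a (s U))) = toGrp (ι.hom.app V (s V))
      rw [hs V, NatTrans.naturality_apply]
      show G.obj.map a (toGrp (ι.hom.app U (s U))) = _
      rw [hs U]
      exact sec_map g a)⟩
    obtain ⟨e⟩ := trivial_of_section T.toGSheaf T.isTorsor.1 sec
    exact Quot.sound ⟨e.symm⟩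

end Groth.Agent.H9Boundary
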